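import Cfsg.Agent.Mrg.Omega.Node.SymG
import Cfsg.Agent.Mrg.Omega.OM.SWT.Base
import Cfsg.Agent.Mrg.Omega.OM.SWT.CaseLS
import Cfsg.Agent.Mrg.Omega.OM.SwapT.Frame
import Cfsg.Agent.Mrg.Omega.OM.SwapK.OffW
import Cfsg.Agent.Mrg.Omega.NO3S.WY.Frame
import Cfsg.Agent.Mrg.Omega.NO3b.Union.Line

-- merged: Cfsg.Agent.Mrg.Omega.Node.OmTopQ
section

/-!
# (Om) over the case (L) of GammaFF, natural blocks, `q ≥ 4`

* `CoreQ` : THEOREM SWQ over the ground frame `Dt P n M L Z A` (`OM/SWT`): `C_G(Ω₁Z(S)) ≤ X`;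
* `OmC` : the situation (Om) of `MulX.OmX`; `LowQ K`, `OffQ K` : LL and OffW in `C_G(Ω₁Z(S))`;
* `omX_of : CoreQ → LowQ K → OffQ K → OmX K (4 ≤ q)`.
-/

set_option autoImplicit false
set_option linter.unusedSectionVars false

namespace Cfsg.Agent.Omega.Node.OmTopQ

open Subgroup Cfsg Cfsg.Agent.ZN.ChoiceBase Cfsg.Agent.ZN.ChoiceSit
open Cfsg.Agent.ZN (jj zj bau zc zl o2)
open Cfsg.Agent.Omega.NO3S.Level (nxt Lev CaseL)
open Cfsg.Agent.Omega.NO3S.OneLine (NatC)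
open Cfsg.Agent.Omega.FFThm (NatK NatKM)
open Cfsg.Agent.Omega.FrameFF (cv)
open Cfsg.Agent.Omega.FrameNOFF (CZ)
open Cfsg.Agent.Omega.Frame (Cls)
open Cfsg.Agent.Omega.OM
open Cfsg.Agent.Omega.OM.LevB (FBlk)
open Cfsg.Agent.Omega.OM.SWT
open Cfsg.Agent.Omega.Node.MultiOf (FBl)
open Cfsg.Agent.Omega.Node.MulX

universe u

/-- **THEOREM SWQ** over a general top level. -/
def CoreQ : Prop :=
  ∀ (G : Type u) [Group G] [Finite G] (S : Sylow 2 G) (P : Subgroup G) (n : LV S) (F : Type) [Field F] [Finite F]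
    [CharP F 2] (k : ℕ) (M : NatC F (S : Subgroup G) P (zl (S : Subgroup G) P) (cv (S : Subgroup G) P) k)
    (L Z A : Fin k → Subgroup G), Dt P n M L Z A → 4 ≤ Nat.card F → ∀ X : Subgroup G,
      (∀ m ∈ normalizer (BT n : Set G), BM n X (cj m (CZ (S : Subgroup G)))) →
      (∀ m ∈ normalizer (BT n : Set G), QFix n X (cj m (CZ (S : Subgroup G)))) →
      (∀ m ∈ normalizer (BT n : Set G), QFam P n X (cj m (CZ (S : Subgroup G)))) →
      (∀ i, L i ≤ X) → P ≤ X → centralizer (ZT n : Set G) ≤ X → normalizer (BT n : Set G) ≤ X →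
        CZ (S : Subgroup G) ≤ X

section one

variable {G : Type u} [Group G] [Finite G] {S : Sylow 2 G} {P B ZJ : Subgroup G} {k : ℕ}
  {L W Z C A : Fin k → Subgroup G} {q : ℕ}

/-- The situation (Om). -/
structure OmC (S : Sylow 2 G) (P B ZJ : Subgroup G) (L W Z C A : Fin k → Subgroup G) (q : ℕ) : Prop where
  mul : MulL S P B ZJ L W Z C A q
  k2 : 2 ≤ k
  ne : o2 (KX B ZJ (zl (S : Subgroup G) P)) ≠ ⊥
  leB : o2 (KX B ZJ (zl (S : Subgroup G) P)) ≤ B
  le : KX B ZJ (zl (S : Subgroup G) P) ⊔ normalizer (B : Set G) ≤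
    normalizer (o2 (KX B ZJ (zl (S : Subgroup G) P)) : Set G)

/-- **(Om) is impossible in the case (L), `q ≥ 4`.** -/
theorem OmC.false (hcore : CoreQ.{u}) (h : OmC S P B ZJ L W Z C A q) (hq : 4 ≤ q)
    (hL : LowW h.mul.cl (CZ (S : Subgroup G)))
    (hO : OffC h.mul.cl (normalizer (o2 (KX B ZJ (zl (S : Subgroup G) P)) : Set G)) (CZ (S : Subgroup G))) : False := by
  have hcl := h.mul.cl
  set X : Subgroup G := normalizer (o2 (KX B ZJ (zl (S : Subgroup G) P)) : Set G) with hX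
  have eB : B = BT (nL hcl) := h.mul.eqB
  have eZ : ZJ = ZT (nL hcl) := h.mul.eZ
  obtain ⟨F, _, _, _, hF, ⟨N⟩⟩ := h.mul.nat
  obtain ⟨M, L', Z', A', -, D⟩ := exists_dt (n := nL hcl) hcl.hypN le_rfl (MulG.exists_BO_caseL hcl) h.k2 N
  have hZV : ZT (nL hcl) ≤ zl (S : Subgroup G) P := by rw [← eZ]; exact h.mul.fr.ZJV
  replace hL : LowC hcl (CZ (S : Subgroup G)) := lowC_of hcl D.ln (by rw [hF]; omega) hL
  have hKX : KX B ZJ (zl (S : Subgroup G) P) ≤ X := le_sup_left.trans h.le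
  have hN : normalizer (BT (nL hcl) : Set G) ≤ X := by rw [← eB]; exact le_sup_right.trans h.le
  have hD : centralizer (ZT (nL hcl) : Set G) ≤ X := by rw [← eZ]; exact cent_le.trans hKX
  have hblk : ∀ L' V' : Subgroup G, FBlk (BT (nL hcl)) L' V' → V' ≤ zl (S : Subgroup G) P → L' ≤ X := by
    intro L' V' h1 h2
    rw [← eB] at h1
    exact (blk_le ⟨⟨h1.fb, h1.blk⟩, h2⟩).trans hKX
  have hSX : (S : Subgroup G) ≤ X := ((lb (nL hcl)).two_le S.isPGroup' (lb (nL hcl)).BS).trans hN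
  have hZM : normalizer (ZT (nL hcl) : Set G) ≤ X := by
    have h1 := LevD.norm_le_M (𝓑 := fun _ _ => False) (lb (nL hcl))
      (sup_le hD (iSup_le fun i => i.2.elim)) hN
    exact h1
  have hP : P ≤ X := by
    have hst := hcl.hypN.star
    obtain ⟨L₁, V₁, -, h2, h3, h4⟩ := exists_fblk hcl hZV hcl.hypN.toHyp.syl (lb (nL hcl)).BS hst.toIsMinPar
      (hst.isLoc.char2 S hcl.ctx.char2) le_rfl (MulG.top_caseL hcl).nxt
      (fun hc => hst.not_zc (hc.trans (centralizer_le_normalizer _)))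
    exact h4.trans (sup_le hSX (hblk L₁ V₁ h2 h3))
  have hLX : ∀ i, L' i ≤ X := fun i =>
    hblk (L' i) _ ⟨⟨_, _, D.bg.fr.blk i⟩, D.bg.block i⟩ fun v hv => hv.1
  have hCZ : CZ (S : Subgroup G) ≤ X := by
    refine hcore G S P (nL hcl) F k M L' Z' A' D (by rw [hF]; exact hq) X (fun m hm => ?_) (fun m hm => ?_)
      (fun m hm => ?_) hLX hP hD hN
    · exact bm_of hcl hZV (lowC_cj hcl hL hm) hblk hN
    · exact qfix_of hcl hZV (offC_cj hcl hO hN hm)
    · exact qfam_of hcl hZM (lowC_cj hcl hL hm) (offC_cj hcl hO hN hm)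
  exact h.ne (hcl.hypN.nonLoc _ (isPGroup_o2 _) hP hCZ)

end one

section sockets

variable (K : Cls.{u})

/-- **LL** in `C_G(Ω₁Z(S))`, case (L), natural, `q ≥ 4`, for the `Y` with `lim S ≤ O₂(Y)`, `O₂(P) ≰ O₂(Y)`. -/
def LowQ : Prop :=
  ∀ (G : Type u) [Group G] [Finite G], K G → ∀ (S : Sylow 2 G) (P B ZJ : Subgroup G) (k : ℕ)
    (L W Z C A : Fin k → Subgroup G) (q : ℕ), 4 ≤ q → ∀ h : OmC S P B ZJ L W Z C A q,
      LowW h.mul.cl (CZ (S : Subgroup G))

/-- **OffW** in `C_G(Ω₁Z(S))`, case (L), natural, `q ≥ 4`. -/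
def OffQ : Prop :=
  ∀ (G : Type u) [Group G] [Finite G], K G → ∀ (S : Sylow 2 G) (P B ZJ : Subgroup G) (k : ℕ)
    (L W Z C A : Fin k → Subgroup G) (q : ℕ), 4 ≤ q → ∀ h : OmC S P B ZJ L W Z C A q,
      OffC h.mul.cl (normalizer (o2 (KX B ZJ (zl (S : Subgroup G) P)) : Set G)) (CZ (S : Subgroup G))

end sockets

/-- **(Om), case (L), natural, `q ≥ 4`.** -/
theorem omX_of {K : Cls.{u}} (hcore : CoreQ.{u}) (hL : LowQ K) (hO : OffQ K) : OmX K fun _ q => 4 ≤ q := by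
  intro G _ _ hK S P B ZJ k L W Z C A q hk hq hM h1 h2 h3
  have h : OmC S P B ZJ L W Z C A q := ⟨hM, hk, h1, h2, h3⟩
  exact (h.false hcore hq (hL G hK S P B ZJ k L W Z C A q hq h) (hO G hK S P B ZJ k L W Z C A q hq h)).elim

end Cfsg.Agent.Omega.Node.OmTopQ

end

-- merged: Cfsg.Agent.Mrg.Omega.OM.SwapT.QuietL
section

section


/-!
# THEOREM SW in the case (L): the sockets `QFix`, `QFam` (quiet minimal parabolics with `K₀ ≰ O₂(Y)`)

`CaseL S P`, `K₀ = O₂(P)`.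

* `OffW S P M` : a minimal parabolic `Y ≤ C_G(Z)` over `T`, `B ≤ T ≤ S`, with `lim S ≤ O₂(Y)`, `O₂(P) ≰ O₂(Y)`, `Y ≰ M`, has
  a best offender on `⟨V_P^Y⟩` in `T`, not in `O₂(Y)` (THEOREM QW);
* `OffW.gen` : the same for every 2-group `T ≥ B`;
* **`qFix_of`**, **`qFam_of`** : the sockets.
-/

set_option autoImplicit false

namespace Cfsg.Agent.Omega.OM.SwapT.QuietL

open Subgroup Cfsg Cfsg.Agent.ZN.ChoiceBase Cfsg.Agent.ZN.ChoiceSit
open Cfsg.Agent.ZN (jj zj bau zc zl o2)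
open Cfsg.Agent.MinSimple.MinParabolic (IsMinPar)
open Cfsg.Agent.MinSimple.VModule (oddGen oddGen_le)
open Cfsg.Agent.Omega.NO1.BestOff (Best)
open Cfsg.Agent.Omega.NO3S.Level (lev nxt Lev lev_isLev BO lim CaseL)
open Cfsg.Agent.Omega.NO3S.WY (WQ)
open Cfsg.Agent.Omega.OM.LevD (LB K0)
open Cfsg.Agent.Omega.OM.Swap.Fam (Fm BF fm_AA fm_best)
open Cfsg.Agent.Omega.OM.SwapL (zc_elab)
open Cfsg.Agent.Omega.OM.SwapK (VF fam_of_off fix_of_off norm_lim_of V_le_VF)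

universe u

variable {G : Type u} [Group G] [Finite G]

/-- **THEOREM QW, its conclusion.** -/
def OffW (S : Sylow 2 G) (P M : Subgroup G) : Prop :=
  ∀ T Y : Subgroup G, WQ S P T Y → BT (S : Subgroup G) (o2 P) ≤ T → lim (S : Subgroup G) ≤ o2 Y →
    Y ≤ centralizer (zc (S : Subgroup G) : Set G) → ¬ Y ≤ M → ∃ A, A ≤ T ∧ Best (VF S P Y) A ∧ ¬ A ≤ o2 Y

omit [Finite G] in
theorem isMinPar_cj {T P : Subgroup G} (g : G) (h : IsMinPar T P) : IsMinPar (cj g T) (cj g P) :=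
  MinPar.IsMinPar.map (MulAut.conj g) h

omit [Finite G] in
theorem best_cj {V X : Subgroup G} (g : G) (h : Best V X) : Best (cj g V) (cj g X) where
  sq := by
    intro a ha
    have h1 := h.sq _ (mem_cj.1 ha)
    rw [← cj_centralizer, mem_cj]
    convert h1 using 1
    rw [pow_two, pow_two]
    group
  comm := by
    intro a ha b hb
    have h1 := h.comm _ (mem_cj.1 ha) _ (mem_cj.1 hb)
    rw [← cj_centralizer, mem_cj]
    convert h1 using 1
    group
  max := by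
    intro Y hY hYc
    have e : ∀ A : Subgroup G, cj g V ⊓ centralizer (A : Set G) = cj g (V ⊓ centralizer (cj g⁻¹ A : Set G)) := by
      intro A
      rw [cj_inf, cj_centralizer, cj_cj_inv]
    have h1 := h.max (cj g⁻¹ Y) (by
      have := cj_mono g⁻¹ hY
      rwa [cj_inv_cj] at this) (by
      have := cj_mono g⁻¹ hYc
      rwa [cj_inf, cj_inv_cj, cj_centralizer, cj_inv_cj] at this)
    rw [e, e, cj_inv_cj, card_cj, card_cj, card_cj]
    rwa [card_cj] at h1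

variable {S : Sylow 2 G} {K₀ P M : Subgroup G}

/-- A 2-group over `B` lies in `S^g`, `g ∈ N_G(B)`, and `Ω₁(Z(S^g)) ≤ Ω₁(Z(T))`. -/
theorem exists_norm_B (hw : NO3b.Wc.WC (S : Subgroup G) K₀) (hL : Lev (S : Subgroup G) K₀) {T : Subgroup G} (hT : IsPGroup 2 T)
    (hB : BT (S : Subgroup G) K₀ ≤ T) : ∃ g ∈ normalizer (BT (S : Subgroup G) K₀ : Set G),
      T ≤ cj g (S : Subgroup G) ∧ zc (cj g (S : Subgroup G)) ≤ zc T := by
  obtain ⟨S', hS'⟩ := hT.exists_le_sylow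
  obtain ⟨g, hg⟩ := MulAction.exists_smul_eq G S S'
  have hg2 : (S' : Subgroup G) = cj g (S : Subgroup G) := by
    rw [← hg, Sylow.coe_subgroup_smul]
    rfl
  have hgN : g ∈ normalizer (BT (S : Subgroup G) K₀ : Set G) := by
    have h1 : cj g⁻¹ (BT (S : Subgroup G) K₀) ≤ (S : Subgroup G) := by
      have := cj_mono g⁻¹ ((hB.trans hS').trans hg2.le)
      rwa [cj_inv_cj] at this
    have h2 := wc hw _ S.isPGroup' (lb hw).BS _ h1
    have h3 := inv_mem (mem_normalizer_iff_cj.2 h2)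
    rwa [inv_inv] at h3
  refine ⟨g, hgN, hg2 ▸ hS', ?_⟩
  intro z hz
  have h4 : z ∈ T := by
    rw [NO3S.Level.zc_cj] at hz
    have h5 : zc (S : Subgroup G) ≤ ZT (S : Subgroup G) K₀ := hL.next.zc_le
    have h6 := cj_mono g h5 hz
    rw [cj_eq_of_mem_normalizer ((lb hw).norm_B_le hgN)] at h6
    exact hB ((lb hw).ZB h6)
  obtain ⟨h5, h6, h7⟩ := mem_zc.1 hz
  exact mem_zc.2 ⟨h4, h6, fun y hy => h7 y (hg2 ▸ hS' hy)⟩

/-- `OffW` for every 2-group `T ≥ B`. -/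
theorem OffW.gen (h : CaseL S P) (ho : OffW S P M) (hSM : (S : Subgroup G) ≤ M)
    (hD : centralizer (zl (S : Subgroup G) P : Set G) ≤ M)
    (hN : normalizer (BT (S : Subgroup G) (o2 P) : Set G) ≤ M) {T T₁ F : Subgroup G} (hT : Syl T F)
    (hB : BT (S : Subgroup G) (o2 P) ≤ T) (hT₁ : IsPGroup 2 T₁) (hTT : T ≤ T₁) (hmin : IsMinPar T F)
    (hc : F ⊓ centralizer (o2 F : Set G) ≤ o2 F) (hl : lim (S : Subgroup G) ≤ o2 F) (hn : ¬ o2 P ≤ o2 F)
    (hz : F ≤ centralizer (zc T₁ : Set G)) (hM : ¬ F ≤ M) :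
    ∃ A, A ≤ T ∧ Best (VF S P F) A ∧ ¬ A ≤ o2 F := by
  obtain ⟨g, hg, hle, hzz⟩ := exists_norm_B h.wc h.levQ hT₁ (hB.trans hTT)
  have hgi : g⁻¹ ∈ normalizer (BT (S : Subgroup G) (o2 P) : Set G) := inv_mem hg
  have hgQ : cj g⁻¹ (o2 P) = o2 P := mem_normalizer_iff_cj.1 (norm_K h.wc hgi)
  have hgV : cj g⁻¹ (zl (S : Subgroup G) P) = zl (S : Subgroup G) P :=
    mem_normalizer_iff_cj.1 (h.norm_o2_le (norm_K h.wc hgi))
  have hgB : cj g⁻¹ (BT (S : Subgroup G) (o2 P)) = BT (S : Subgroup G) (o2 P) := mem_normalizer_iff_cj.1 hgi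
  have hgl : cj g⁻¹ (lim (S : Subgroup G)) = lim (S : Subgroup G) :=
    LevD.norm_of_wc (NO3S.Level.wc_lim S) (lb h.wc).Bp (h.lim_le.trans (K_le h.wc)) hgi
  have ho2 : o2 (cj g⁻¹ F) = cj g⁻¹ (o2 F) := o2_cj _ _
  have hgM : g ∈ M := hN hg
  have hVF : VF S P (cj g⁻¹ F) = cj g⁻¹ (VF S P F) := by
    have := NO3b.Exit.conj_V g⁻¹ (zl (S : Subgroup G) P) F
    rw [hgV] at this
    exact this.symm
  have hnM : ¬ cj g⁻¹ F ≤ M := by
    intro hle'
    apply hM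
    have := cj_mono g hle'
    rw [cj_cj_inv] at this
    exact this.trans (cj_eq_of_mem_normalizer (le_normalizer hgM)).le
  have hTS : cj g⁻¹ T ≤ (S : Subgroup G) := by
    have := cj_mono g⁻¹ (hTT.trans hle)
    rwa [cj_inv_cj] at this
  have hBT' : BT (S : Subgroup G) (o2 P) ≤ cj g⁻¹ T := by
    have := cj_mono g⁻¹ hB
    rwa [hgB] at this
  have hsy : Syl (cj g⁻¹ T) (cj g⁻¹ F) := NO1.JMin.syl_cj hT g⁻¹
  have hcF : cj g⁻¹ F ≤ centralizer (zc (S : Subgroup G) : Set G) := by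
    have h1 : F ≤ centralizer (zc (cj g (S : Subgroup G)) : Set G) := hz.trans (centralizer_le hzz)
    have h2 := cj_mono g⁻¹ h1
    rwa [cj_centralizer, NO3S.Level.zc_cj, cj_inv_cj] at h2
  have hwq : WQ S P (cj g⁻¹ T) (cj g⁻¹ F) :=
    { cl := h
      TS := hTS
      QT := (K_le h.wc).trans hBT'
      syl := hsy
      min := isMinPar_cj g⁻¹ hmin
      c2 := by
        rw [ho2]
        have := cj_mono g⁻¹ hc
        rwa [cj_inf, cj_centralizer] at this
      mvL := by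
        intro hcon
        apply hnM
        rw [← Dich.oddGen_sup_syl hsy]
        exact sup_le (hcon.trans hD) (hTS.trans hSM)
      nQ := by
        intro hcon
        apply hn
        rw [ho2] at hcon
        have := cj_mono g hcon
        rw [cj_cj_inv] at this
        refine le_trans (le_of_eq ?_) this
        rw [← hgQ, cj_cj_inv, hgQ]
      jY := by
        rw [ho2]
        refine ((NO3S.Level.lev_mono (S : Subgroup G) (Nat.zero_le _)).trans hgl.ge).trans (cj_mono g⁻¹ hl) }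
  obtain ⟨A, hA, hb, hnA⟩ := ho _ _ hwq hBT' (by rw [ho2]; exact hgl.ge.trans (cj_mono g⁻¹ hl)) hcF hnM
  refine ⟨cj g A, ?_, ?_, fun hcon => hnA ?_⟩
  · have := cj_mono g hA
    rwa [cj_cj_inv] at this
  · rw [hVF] at hb
    have h1 := best_cj g hb
    rwa [cj_cj_inv] at h1
  · rw [ho2]
    have := cj_mono g⁻¹ hcon
    rwa [cj_inv_cj] at this

/-- `M` contains `S` -/
theorem S_le (hw : NO3b.Wc.WC (S : Subgroup G) K₀) (hN : normalizer (BT (S : Subgroup G) K₀ : Set G) ≤ M) :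
    (S : Subgroup G) ≤ M := ((lb hw).two_le S.isPGroup' (lb hw).BS).trans hN

/-- **The socket `QFix`** in the case (L). -/
theorem qFix_of (h : CaseL S P) (ho : OffW S P M) (hD : centralizer (ZT (S : Subgroup G) (o2 P) : Set G) ≤ M)
    (hZV : ZT (S : Subgroup G) (o2 P) ≤ zl (S : Subgroup G) P)
    (hN : normalizer (BT (S : Subgroup G) (o2 P) : Set G) ≤ M) (H : Subgroup G) : QFix S (o2 P) M H := by
  intro T Y hT hB hY _ hc hn hz hM
  have hlT : lim (S : Subgroup G) ≤ T := (h.lim_le.trans (K_le h.wc)).trans hB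
  by_cases hl : lim (S : Subgroup G) ≤ o2 Y
  · have hoff := ho.gen h (S_le h.wc hN) ((centralizer_le (by exact_mod_cast hZV)).trans hD) hN hT hB hT.2.1 le_rfl
      hY hc hl hn hz hM
    exact (inf_le_inf_right _ (hZV.trans V_le_VF)).trans (fix_of_off h h.lim_le hT hY hl hz hoff)
  · exact inf_le_right.trans (LevD.fixPt S hT hlT hY hl hz)

/-- The family of offenders, `lim S ≰ O₂(F)`. -/
theorem fam_low (h : CaseL S P) {T F : Subgroup G} (hsyl : Syl T F) (hB : BT (S : Subgroup G) (o2 P) ≤ T)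
    (hmin : IsMinPar T F) (hD : centralizer (zl (S : Subgroup G) P : Set G) ≤ M) (hTM : T ≤ M) (hM : ¬ F ≤ M)
    (hl : ¬ lim (S : Subgroup G) ≤ o2 F) : FamF S P (o2 P) T F := by
  classical
  have hT2 := hsyl.2.1
  have hlT : lim (S : Subgroup G) ≤ T := (h.lim_le.trans (K_le h.wc)).trans hB
  have hall : ∀ n, lev (S : Subgroup G) n ≤ lim (S : Subgroup G) := fun n => NO3S.Level.lev_le_lim _ n
  have hcV : ∀ a ∈ lim (S : Subgroup G), ∀ v ∈ zl (S : Subgroup G) P, a * v = v * a := by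
    intro a ha v hv
    rw [← h.zc_eq] at hv
    exact (mem_zc.1 hv).2.2 a (h.lim_le ha)
  by_cases hJ : jj (S : Subgroup G) ≤ o2 F
  swap
  · -- stage `-1`
    have h0T : jj (S : Subgroup G) ≤ T := (hall 0).trans hlT
    have hjT : jj T = jj (S : Subgroup G) := MinSimple.EmptyTI.jj_eq S hT2 h0T
    refine ⟨AA F, fun Λ hΛ hΛF hn _ => fm_AA hΛ hΛF hn, ?_, fun X hX hXT => ?_⟩
    · by_contra hcon
      push Not at hcon
      apply hJ
      rw [← hjT, Cfsg.Agent.ZN.ChoiceBase.jj_eq]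
      exact sSup_le fun X hX => hcon X (Swap.AA_of_syl hsyl hX) hX.2.1
    · have h1 : X ≤ lev (S : Subgroup G) 0 := by
        have := le_jj (Swap.AA_of_le hX hXT hsyl.1)
        rwa [hjT] at this
      exact ⟨((h1.trans (hall 0)).trans h.lim_le).trans (K_le h.wc),
        Or.inl fun a ha v hv => hcV a (hall 0 (h1 ha)) v hv⟩
  · -- the last level in `O₂(F)`
    obtain ⟨s, hlow, hnle⟩ : ∃ s, lev (S : Subgroup G) s ≤ o2 F ∧ ¬ lev (S : Subgroup G) (s + 1) ≤ o2 F := by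
      by_contra hcon
      push Not at hcon
      have : ∀ n, lev (S : Subgroup G) n ≤ o2 F := by
        intro n
        induction n with
        | zero => exact hJ
        | succ n ih => exact hcon n ih
      exact hl (this _)
    have hX := zc_elab (lev (S : Subgroup G) s)
    have hFN : F ≤ normalizer (zc (lev (S : Subgroup G) s) : Set G) :=
      (le_normalizer_o2 F).trans ((LB.lev S s).nrm _ (isPGroup_o2 F) hlow)
    have hlev : ∀ j, lev T j = lev (S : Subgroup G) j := fun j =>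
      LevD.lev_eq S hT2 ((hall j).trans hlT) j le_rfl
    have hVX : zl (S : Subgroup G) P ≤ zc (lev (S : Subgroup G) s) := by
      rw [← h.zc_eq]
      exact (lev_isLev (S : Subgroup G) s).zc_le_zc ((hall s).trans h.lim_le) h.wc.le
    refine ⟨BF F (zc (lev (S : Subgroup G) s)), fun Λ hΛ hΛF hn hle => fm_best hX hFN ?_ hn, ?_, fun X hXA hXT => ?_⟩
    · refine hle.trans (NoFF.Basic.V_le fun f hf => ?_)
      have h1 := cj_mono f hVX
      rwa [cj_eq_of_mem_normalizer (hFN hf)] at h1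
    · by_contra hcon
      push Not at hcon
      apply hnle
      rw [← hlev (s + 1)]
      have e : lev T (s + 1) = nxt T (lev T s) := rfl
      rw [e, hlev s]
      have : Fact (Nat.Prime 2) := ⟨Nat.prime_two⟩
      have hNn : F ≤ normalizer ((F ⊓ centralizer (zc (lev (S : Subgroup G) s) : Set G) : Subgroup G) : Set G) := by
        intro f hf
        rw [mem_normalizer_iff_cj, cj_inf, cj_centralizer, cj_eq_of_mem_normalizer (hFN hf),
          cj_eq_of_mem_normalizer (le_normalizer hf)]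
      refine sup_le ?_ (sSup_le fun X hX' => hcon X ⟨hX'.1.trans hsyl.1, hT2.to_le hX'.1, hX'.2⟩ hX'.1)
      rcases hmin.sup_eq_or_inf_le (p := 2) hT2 (syl_not_dvd hsyl)
        (N := F ⊓ centralizer (zc (lev (S : Subgroup G) s) : Set G)) inf_le_left hNn with h1 | h1
      · exfalso
        apply hM
        rw [← h1]
        refine sup_le ((inf_le_right.trans (centralizer_le ?_)).trans hD) hTM
        exact_mod_cast hVX
      · refine le_trans (fun x hx => ?_) h1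
        exact ⟨hx.1, hsyl.1 hx.1, hx.2⟩
    · have h1 : X ≤ lev (S : Subgroup G) (s + 1) := by
        rw [← hlev (s + 1)]
        have e : lev T (s + 1) = nxt T (lev T s) := rfl
        rw [e, hlev s]
        exact NO3S.Level.BO.le_nxt ⟨hXT, hXA.2.2⟩
      exact ⟨((h1.trans (hall _)).trans h.lim_le).trans (K_le h.wc),
        Or.inl fun a ha v hv => hcV a (hall _ (h1 ha)) v hv⟩

/-- **The socket `QFam`** in the case (L). -/
theorem qFam_of (h : CaseL S P) (ho : OffW S P M) (hD : centralizer (ZT (S : Subgroup G) (o2 P) : Set G) ≤ M)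
    (hZV : ZT (S : Subgroup G) (o2 P) ≤ zl (S : Subgroup G) P)
    (hN : normalizer (BT (S : Subgroup G) (o2 P) : Set G) ≤ M) (H : Subgroup G) : QFam S P (o2 P) M H := by
  intro T F hp hq hn
  have hD' : centralizer (zl (S : Subgroup G) P : Set G) ≤ M := (centralizer_le (by exact_mod_cast hZV)).trans hD
  have hZM : normalizer (ZT (S : Subgroup G) (o2 P) : Set G) ≤ M := (lb h.wc).norm_zj_le.trans (sup_le hD hN)
  have hmin := hp.minPar h.wc hZM
  have hTM : T ≤ M := ((lb h.wc).two_le hp.syl.2.1 hp.BT).trans hN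
  by_cases hl : lim (S : Subgroup G) ≤ o2 F
  · obtain ⟨T₀, Y, hT₀, hB₀, hY, -, hcY, hzY, -, hFY, hOF⟩ := hq
    obtain ⟨T₁, hT₁, hTT₁⟩ := exists_syl hp.syl.2.1 (hp.syl.1.trans hFY)
    obtain ⟨y, hy, rfl⟩ := syl_conj hT₀ hT₁
    have hz1 : F ≤ centralizer (zc (cj y T₀) : Set G) := by
      have h1 := cj_mono y hzY
      rw [cj_eq_of_mem_normalizer (le_normalizer hy), cj_centralizer, ← NO3S.Level.zc_cj] at h1
      exact hFY.trans h1
    have hcF : F ⊓ centralizer (o2 F : Set G) ≤ o2 F := by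
      rintro x ⟨hx, hxc⟩
      exact hOF (hcY ⟨hFY hx, centralizer_le (by exact_mod_cast hOF) hxc⟩)
    have hoff := ho.gen h (S_le h.wc hN) hD' hN hp.syl hp.BT hT₁.2.1 hTT₁ hmin hcF hl hn hz1 hp.nM
    obtain ⟨𝓐, h1, h2, h3⟩ := fam_of_off h h.lim_le hp.syl hp.BT hl hoff
    exact ⟨𝓐, h1, h2, fun X hX hXT => ⟨(h3 X hX hXT).1,
      (h3 X hX hXT).2.imp id fun hb F' h4 h5 => hb.max F' h5 h4⟩⟩
  · exact fam_low h hp.syl hp.BT hmin hD' hTM hp.nM hl

end Cfsg.Agent.Omega.OM.SwapT.QuietL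

end

section


/-!
# (Om) over the case (L) of GammaFF: the sockets of `SWT/Base.lean` from `QuietL.OffW` and LAMBDA

`M ≥ S, C_G(Z_J), N_G(B)`.

* `LowM h M H` : the minimal parabolics `Y ≤ H` over a 2-group `T ≥ B` with `lim S ≤ O₂(Y)`, `O₂(P) ≰ O₂(Y)`, which move
  `Ω₁(Z(T))`, lie in `M`;
* `LamS S P M` : the same for `B ≤ T ≤ S`, `Y ≤ C_G(Ω₁Z(S))`, over helper194's `WY`; `lowM_of`;
* `bm_ofM`, `qfix_ofM`, `qfam_ofM`; `lowM_cj`.
-/

set_option autoImplicit false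
set_option linter.unusedSectionVars false

namespace Cfsg.Agent.Omega.OM.SWT

open Subgroup Cfsg Cfsg.Agent.ZN.ChoiceBase Cfsg.Agent.ZN.ChoiceSit
open Cfsg.Agent.ZN (jj zj bau zc zl o2)
open Cfsg.Agent.MinSimple.MinParabolic (IsMinPar)
open Cfsg.Agent.MinSimple.VModule (oddGen oddGen_le)
open Cfsg.Agent.Omega.NO1.BestOff (Best)
open Cfsg.Agent.Omega.NO3S.Level (Lev nxt lim lev_isLev lev_le_lim CaseL)
open Cfsg.Agent.Omega.NO3S.WY (WQ WY)
open Cfsg.Agent.Omega.OM.LevB (FBlk)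
open Cfsg.Agent.Omega.OM.SwapK (VF V_le_VF fam_of_off fix_of_off)
open Cfsg.Agent.Omega.OM.SwapT.QuietL (OffW)

universe u

variable {G : Type u} [Group G] [Finite G] {S : Sylow 2 G} {P : Subgroup G}

/-- **LL** for the `Y` with `lim S ≤ O₂(Y)`, `O₂(P) ≰ O₂(Y)`. -/
def LowM (h : CaseL S P) (M H : Subgroup G) : Prop :=
  ∀ T Y : Subgroup G, Syl T Y → BT (nL h) ≤ T → IsMinPar T Y → Y ⊓ centralizer (o2 Y : Set G) ≤ o2 Y → Y ≤ H →
    lim (S : Subgroup G) ≤ o2 Y → ¬ o2 P ≤ o2 Y → ¬ Y ≤ centralizer (zc T : Set G) → Y ≤ M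

/-- **LAMBDA, its conclusion.** -/
def LamS (S : Sylow 2 G) (P M : Subgroup G) : Prop :=
  ∀ T Y : Subgroup G, WY S P T Y → SwapT.BT (S : Subgroup G) (o2 P) ≤ T → lim (S : Subgroup G) ≤ o2 Y →
    Y ≤ centralizer (zc (S : Subgroup G) : Set G) → Y ≤ M

section one

variable (h : CaseL S P) {M H : Subgroup G}

theorem offC_of (ho : OffW S P M) (hSM : (S : Subgroup G) ≤ M) (hD : centralizer (zl (S : Subgroup G) P : Set G) ≤ M)
    (hN : normalizer (BT (nL h) : Set G) ≤ M) : OffC h M H := fun _ _ hq hl hK =>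
  ho.gen h hSM hD hN hq.syl hq.BT hq.syl.2.1 le_rfl hq.min hq.char2 hl hK hq.quiet hq.nM

theorem bm_ofM {ι : Type} [Finite ι] {L W Z C A : ι → Subgroup G} {q : ℕ} (hl : Ln P (nL h) L W Z C A q) (hq : 2 < q)
    (hL : LowM h M H) (hX : ∀ L' V' : Subgroup G, FBlk (BT (nL h)) L' V' → V' ≤ zl (S : Subgroup G) P → L' ≤ M)
    (hN : normalizer (BT (nL h) : Set G) ≤ M) : BM (nL h) M H := by
  intro T Y hT hB hP hc hH hn hZ
  by_cases hK : o2 P ≤ o2 Y
  · obtain ⟨L', V', -, h2, h3, h4⟩ := exists_fblk h (hl.fr.ZJV) hT hB hP hc hK hn hZ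
    exact h4.trans (sup_le (((lb (nL h)).two_le hT.2.1 hB).trans hN) (hX L' V' h2 h3))
  · exact hL T Y hT hB hP hc hH (low_lim h hl hq hT hB hP hc hZ) hK hZ

theorem qfam_ofM (ho : OffW S P M) (hZM : normalizer (ZT (nL h) : Set G) ≤ M) (hSM : (S : Subgroup G) ≤ M)
    (hD : centralizer (zl (S : Subgroup G) P : Set G) ≤ M) (hN : normalizer (BT (nL h) : Set G) ≤ M) :
    QFam P (nL h) M H := by
  intro T F hp hw
  have hl := wrd_lim h hw
  obtain ⟨T₀, Y, hY, hFY, hOF⟩ := hp.inQ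
  obtain ⟨T₁, hT₁, hTT₁⟩ := exists_syl hp.syl.2.1 (hp.syl.1.trans hFY)
  obtain ⟨y, hy, rfl⟩ := syl_conj hY.syl hT₁
  have hz1 : F ≤ centralizer (zc (cj y T₀) : Set G) := by
    have h1 := cj_mono y hY.quiet
    rw [cj_eq_of_mem_normalizer (le_normalizer hy), cj_centralizer, ← NO3S.Level.zc_cj] at h1
    exact hFY.trans h1
  have hcF : F ⊓ centralizer (o2 F : Set G) ≤ o2 F := by
    rintro x ⟨hx, hxc⟩
    exact hOF (hY.char2 ⟨hFY hx, centralizer_le (by exact_mod_cast hOF) hxc⟩)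
  have hoff := ho.gen h hSM hD hN hp.syl hp.BT hT₁.2.1 hTT₁ (hp.minPar hZM) hcF hl hw.nK hz1 hp.nM
  obtain ⟨𝓐, h1, h2, h3⟩ := fam_of_off h h.lim_le hp.syl hp.BT hl hoff
  exact ⟨𝓐, h1, h2, fun X hX hXT => ⟨(h3 X hX hXT).1,
    (h3 X hX hXT).2.imp id fun hb F' h4 h5 => hb.max F' h5 h4⟩⟩

theorem lowM_cj {m : G} (hL : LowM h M H) (hN : normalizer (BT (nL h) : Set G) ≤ M)
    (hm : m ∈ normalizer (BT (nL h) : Set G)) : LowM h M (cj m H) := by
  intro T Y hT hB hP hc hH hl hK hZ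
  have hm' := inv_mem hm
  obtain ⟨e1, -, -⟩ := norm_all h hm'
  have hlw : cj m⁻¹ (lim (S : Subgroup G)) = lim (S : Subgroup G) :=
    LevD.norm_of_wc (NO3S.Level.wc_lim S) (lb (nL h)).Bp
      ((h.lim_le.trans (nL h).K_le_nx).trans (lb (nL h)).KB) hm'
  have h1 := hL (cj m⁻¹ T) (cj m⁻¹ Y) (ZN.CaseTwo.syl_cj m⁻¹ hT) (by
    have := cj_mono m⁻¹ hB
    rwa [cj_eq_of_mem_normalizer hm'] at this) (NOThree.NoOver.isMinPar_cj m⁻¹ hP) (cj_char2 m⁻¹ hc) (by
    have := cj_mono m⁻¹ hH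
    rwa [cj_inv_cj] at this) (by
    rw [o2_cj, ← hlw]
    exact cj_mono m⁻¹ hl) (fun hle => hK (by
    rw [o2_cj, ← e1] at hle
    have := cj_mono m hle
    rwa [cj_cj_inv, cj_cj_inv] at this)) (fun hle => hZ (by
    rw [LemmaK.Main.zc_cj, ← cj_centralizer] at hle
    have := cj_mono m hle
    rwa [cj_cj_inv, cj_cj_inv] at this))
  have := cj_mono m h1
  rwa [cj_cj_inv, cj_eq_of_mem_normalizer (le_normalizer (hN hm))] at this

/-- `LowM` in `C_G(Ω₁Z(S))` from `LamS`. -/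
theorem lowM_of (hL : LamS S P M) (hSM : (S : Subgroup G) ≤ M)
    (hD : centralizer (zl (S : Subgroup G) P : Set G) ≤ M) (hN : normalizer (BT (nL h) : Set G) ≤ M) :
    LowM h M (centralizer (zc (S : Subgroup G) : Set G)) := by
  intro T Y hT hB hP hc hH hl hK hZ
  have hSH : (S : Subgroup G) ≤ centralizer (zc (S : Subgroup G) : Set G) := NO3S.Level.le_centralizer_zc _
  have hsyl : Syl (S : Subgroup G) (centralizer (zc (S : Subgroup G) : Set G)) := ZN.CaseTwo.syl_of_sylow S hSH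
  obtain ⟨T₁, hT₁, hTT₁⟩ := exists_syl hT.2.1 (hT.1.trans hH)
  obtain ⟨x, hx, rfl⟩ := syl_conj hsyl hT₁
  have hxB : x⁻¹ ∈ normalizer (BT (nL h) : Set G) := by
    have h1 : cj x⁻¹ (BT (nL h)) ≤ (S : Subgroup G) := by
      have := cj_mono x⁻¹ (hB.trans hTT₁)
      rwa [cj_inv_cj] at this
    exact mem_normalizer_iff_cj.2 (wc (nL h) _ S.isPGroup' (lb (nL h)).BS _ h1)
  obtain ⟨e1, -, -⟩ := norm_all h hxB
  have hlw : cj x⁻¹ (lim (S : Subgroup G)) = lim (S : Subgroup G) :=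
    LevD.norm_of_wc (NO3S.Level.wc_lim S) (lb (nL h)).Bp
      ((h.lim_le.trans (nL h).K_le_nx).trans (lb (nL h)).KB) hxB
  have hTS : cj x⁻¹ T ≤ (S : Subgroup G) := by
    have := cj_mono x⁻¹ hTT₁
    rwa [cj_inv_cj] at this
  have hxM : x ∈ M := by
    have := inv_mem (hN hxB)
    rwa [inv_inv] at this
  have hsy : Syl (cj x⁻¹ T) (cj x⁻¹ Y) := ZN.CaseTwo.syl_cj x⁻¹ hT
  have hBT : BT (nL h) ≤ cj x⁻¹ T := by
    have := cj_mono x⁻¹ hB
    rwa [cj_eq_of_mem_normalizer hxB] at this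
  have hYM : cj x⁻¹ Y ≤ M → Y ≤ M := fun hle => by
    have := cj_mono x hle
    rwa [cj_cj_inv, cj_eq_of_mem_normalizer (le_normalizer hxM)] at this
  by_cases hmv : oddGen (cj x⁻¹ Y) ≤ centralizer (zl (S : Subgroup G) P : Set G)
  · apply hYM
    rw [← Dich.oddGen_sup_syl hsy]
    exact sup_le (hmv.trans hD) (hTS.trans hSM)
  refine hYM (hL (cj x⁻¹ T) (cj x⁻¹ Y) ?_ hBT ?_ ?_)
  · exact
      { cl := h
        TS := hTS
        QT := ((nL h).K_le_nx.trans (lb (nL h)).KB).trans hBT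
        syl := hsy
        min := NOThree.NoOver.isMinPar_cj x⁻¹ hP
        c2 := cj_char2 x⁻¹ hc
        mvL := hmv
        nQ := fun hle => hK (by
          rw [o2_cj, ← e1] at hle
          have := cj_mono x hle
          rwa [cj_cj_inv, cj_cj_inv] at this)
        jY := by
          rw [o2_cj]
          exact ((NO3S.Level.lev_mono (S : Subgroup G) (Nat.zero_le _)).trans hlw.ge).trans (cj_mono x⁻¹ hl)
        mv := fun hle => hZ (by
          rw [LemmaK.Main.zc_cj, ← cj_centralizer] at hle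
          have := cj_mono x hle
          rwa [cj_cj_inv, cj_cj_inv] at this) }
  · rw [o2_cj]
    exact hlw.ge.trans (cj_mono x⁻¹ hl)
  · have := cj_mono x⁻¹ hH
    rwa [cj_eq_of_mem_normalizer (le_normalizer (inv_mem hx))] at this

end one

end Cfsg.Agent.Omega.OM.SWT

end

section


/-!
# (Om) over the case (L) of GammaFF, natural blocks, `q ≥ 4`: from THEOREM QW and LAMBDA

* `OffHQ K` (THEOREM QW), `LamHQ K` (LAMBDA) : the sockets for the minimal parabolics `Y ≤ C_G(Ω₁Z(S))` with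
  `lim S ≤ O₂(Y)`, `O₂(P) ≰ O₂(Y)`, `Y ≰ M`;
* `omX_of_lam : CoreQ → OffHQ K → LamHQ K → OmX K (4 ≤ q)`.
-/

set_option autoImplicit false
set_option linter.unusedSectionVars false

namespace Cfsg.Agent.Omega.Node.OmTopQ

open Subgroup Cfsg Cfsg.Agent.ZN.ChoiceBase Cfsg.Agent.ZN.ChoiceSit
open Cfsg.Agent.ZN (jj zj bau zc zl o2)
open Cfsg.Agent.Omega.NO3S.Level (nxt Lev CaseL)
open Cfsg.Agent.Omega.NO3S.OneLine (NatC)
open Cfsg.Agent.Omega.FFThm (NatK NatKM)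
open Cfsg.Agent.Omega.FrameFF (cv)
open Cfsg.Agent.Omega.FrameNOFF (CZ)
open Cfsg.Agent.Omega.Frame (Cls)
open Cfsg.Agent.Omega.OM
open Cfsg.Agent.Omega.OM.LevB (FBlk)
open Cfsg.Agent.Omega.OM.SWT
open Cfsg.Agent.Omega.OM.SwapT.QuietL (OffW)
open Cfsg.Agent.Omega.MinPar (IsLoc)
open Cfsg.Agent.Omega.Node.MultiOf (FBl)
open Cfsg.Agent.Omega.Node.MulX

universe u

section one

variable {G : Type u} [Group G] [Finite G] {S : Sylow 2 G} {P B ZJ : Subgroup G} {k : ℕ}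
  {L W Z C A : Fin k → Subgroup G} {q : ℕ}

theorem OmC.hP (h : OmC S P B ZJ L W Z C A q) :
    P ≤ normalizer (o2 (KX B ZJ (zl (S : Subgroup G) P)) : Set G) ∧
    IsLoc (S : Subgroup G) (normalizer (o2 (KX B ZJ (zl (S : Subgroup G) P)) : Set G)) := by
  have hcl := h.mul.cl
  have eB : B = BT (nL hcl) := h.mul.eqB
  have eZ : ZJ = ZT (nL hcl) := h.mul.eZ
  have hZV : ZT (nL hcl) ≤ zl (S : Subgroup G) P := by rw [← eZ]; exact h.mul.fr.ZJV
  have hKX : KX B ZJ (zl (S : Subgroup G) P) ≤ normalizer (o2 (KX B ZJ (zl (S : Subgroup G) P)) : Set G) :=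
    le_sup_left.trans h.le
  have hN : normalizer (BT (nL hcl) : Set G) ≤ normalizer (o2 (KX B ZJ (zl (S : Subgroup G) P)) : Set G) := by
    rw [← eB]; exact le_sup_right.trans h.le
  have hSX : (S : Subgroup G) ≤ normalizer (o2 (KX B ZJ (zl (S : Subgroup G) P)) : Set G) :=
    ((lb (nL hcl)).two_le S.isPGroup' (lb (nL hcl)).BS).trans hN
  have hst := hcl.hypN.star
  obtain ⟨L₁, V₁, -, h2, h3, h4⟩ := exists_fblk hcl hZV hcl.hypN.toHyp.syl (lb (nL hcl)).BS hst.toIsMinPar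
    (hst.isLoc.char2 S hcl.ctx.char2) le_rfl (MulG.top_caseL hcl).nxt
    (fun hc => hst.not_zc (hc.trans (centralizer_le_normalizer _)))
  rw [← eB] at h2
  refine ⟨h4.trans (sup_le hSX ((blk_le ⟨⟨h2.fb, h2.blk⟩, h3⟩).trans hKX)), hSX, fun e => h.ne ?_⟩
  rw [eq_bot_iff, ← e]
  exact le_o2 (isPGroup_o2 _) le_normalizer le_rfl

/-- **(Om) is impossible in the case (L), `q ≥ 4`.** -/
theorem OmC.false_lam (hcore : CoreQ.{u}) (h : OmC S P B ZJ L W Z C A q) (hq : 4 ≤ q)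
    (ho : OffW S P (normalizer (o2 (KX B ZJ (zl (S : Subgroup G) P)) : Set G)))
    (hL : LamS S P (normalizer (o2 (KX B ZJ (zl (S : Subgroup G) P)) : Set G))) : False := by
  have hcl := h.mul.cl
  obtain ⟨hP, -⟩ := h.hP
  set X : Subgroup G := normalizer (o2 (KX B ZJ (zl (S : Subgroup G) P)) : Set G) with hX
  have eB : B = BT (nL hcl) := h.mul.eqB
  have eZ : ZJ = ZT (nL hcl) := h.mul.eZ
  obtain ⟨F, _, _, _, hF, ⟨N⟩⟩ := h.mul.nat
  obtain ⟨M, L', Z', A', -, D⟩ := exists_dt (n := nL hcl) hcl.hypN le_rfl (MulG.exists_BO_caseL hcl) h.k2 N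
  have hZV : ZT (nL hcl) ≤ zl (S : Subgroup G) P := by rw [← eZ]; exact h.mul.fr.ZJV
  have hKX : KX B ZJ (zl (S : Subgroup G) P) ≤ X := le_sup_left.trans h.le
  have hN : normalizer (BT (nL hcl) : Set G) ≤ X := by rw [← eB]; exact le_sup_right.trans h.le
  have hD : centralizer (ZT (nL hcl) : Set G) ≤ X := by rw [← eZ]; exact cent_le.trans hKX
  have hblk : ∀ L' V' : Subgroup G, FBlk (BT (nL hcl)) L' V' → V' ≤ zl (S : Subgroup G) P → L' ≤ X := by
    intro L' V' h1 h2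
    rw [← eB] at h1
    exact (blk_le ⟨⟨h1.fb, h1.blk⟩, h2⟩).trans hKX
  have hSX : (S : Subgroup G) ≤ X := ((lb (nL hcl)).two_le S.isPGroup' (lb (nL hcl)).BS).trans hN
  have hZM : normalizer (ZT (nL hcl) : Set G) ≤ X := by
    have h1 := LevD.norm_le_M (𝓑 := fun _ _ => False) (lb (nL hcl))
      (sup_le hD (iSup_le fun i => i.2.elim)) hN
    exact h1
  have hDV : centralizer (zl (S : Subgroup G) P : Set G) ≤ X := (centralizer_le (by exact_mod_cast hZV)).trans hD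
  have hLX : ∀ i, L' i ≤ X := fun i =>
    hblk (L' i) _ ⟨⟨_, _, D.bg.fr.blk i⟩, D.bg.block i⟩ fun v hv => hv.1
  have hCZ : CZ (S : Subgroup G) ≤ X := by
    refine hcore G S P (nL hcl) F k M L' Z' A' D (by rw [hF]; exact hq) X (fun m hm => ?_) (fun m hm => ?_)
      (fun m hm => ?_) hLX hP hD hN
    · exact bm_ofM hcl D.ln (by rw [hF]; omega) (lowM_cj hcl (lowM_of hcl hL hSX hDV hN) hN hm) hblk hN
    · exact qfix_of hcl hZV (offC_of hcl ho hSX hDV hN)
    · exact qfam_ofM hcl ho hZM hSX hDV hN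
  exact h.ne (hcl.hypN.nonLoc _ (isPGroup_o2 _) hP hCZ)

end one

section sockets

variable (K : Cls.{u})

/-- **THEOREM QW**, case (L), natural, `q ≥ 4`. -/
def OffHQ : Prop :=
  ∀ (G : Type u) [Group G] [Finite G], K G → ∀ (S : Sylow 2 G) (P B ZJ : Subgroup G) (k : ℕ)
    (L W Z C A : Fin k → Subgroup G) (q : ℕ), 2 ≤ k → 4 ≤ q → MulL S P B ZJ L W Z C A q →
      ∀ M : Subgroup G, IsLoc (S : Subgroup G) M → P ≤ M → centralizer (ZJ : Set G) ≤ M →
        normalizer (B : Set G) ≤ M → OffW S P M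

/-- **LAMBDA**, case (L), natural, `q ≥ 4`. -/
def LamHQ : Prop :=
  ∀ (G : Type u) [Group G] [Finite G], K G → ∀ (S : Sylow 2 G) (P B ZJ : Subgroup G) (k : ℕ)
    (L W Z C A : Fin k → Subgroup G) (q : ℕ), 2 ≤ k → 4 ≤ q → MulL S P B ZJ L W Z C A q →
      ∀ M : Subgroup G, IsLoc (S : Subgroup G) M → P ≤ M → centralizer (ZJ : Set G) ≤ M →
        normalizer (B : Set G) ≤ M → OffW S P M → LamS S P M

end sockets

/-- **(Om), case (L), natural, `q ≥ 4`.** -/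
theorem omX_of_lam {K : Cls.{u}} (hcore : CoreQ.{u}) (hO : OffHQ K) (hL : LamHQ K) : OmX K fun _ q => 4 ≤ q := by
  intro G _ _ hK S P B ZJ k L W Z C A q hk hq hM h1 h2 h3
  have h : OmC S P B ZJ L W Z C A q := ⟨hM, hk, h1, h2, h3⟩
  have h4 := hO G hK S P B ZJ k L W Z C A q hk hq hM _ h.hP.2 h.hP.1 ((cent_le.trans le_sup_left).trans h.le)
    (le_sup_right.trans h.le)
  exact (h.false_lam hcore hq h4 (hL G hK S P B ZJ k L W Z C A q hk hq hM _ h.hP.2 h.hP.1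
    ((cent_le.trans le_sup_left).trans h.le) (le_sup_right.trans h.le) h4)).elim

end Cfsg.Agent.Omega.Node.OmTopQ

end

end
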